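import Groth.Agent.NonAbH1.K976.Lft

/-!
# The scheme of equivariant morphisms between two locally trivial torsors
-/

set_option autoImplicit false
universe u

open CategoryTheory CategoryTheory.Limits MonoidalCategory CartesianMonoidalCategory MonObj GrpObj AlgebraicGeometry
open Opposite
open Groth.Agent.Books.BorelOrb Groth.Agent.Sga3B.RepDescent

namespace K976.EqvRep

open K976.Lft

variable {X : Scheme.{u}} {G E₁ E₂ : Over X} [GrpObj G] (a₁ : AlgGrp.Action G E₁) (a₂ : AlgGrp.Action G E₂)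

/-- equivariance of a family of morphisms `E₁ ⟶ E₂` parametrised by `T` -/
def IsEqv (T : Over X) (φ : (famF E₁ E₂).obj (op T)) : Prop :=
  ∀ {T' : Over X} (g : T' ⟶ G) (e : T' ⟶ E₁) (t : T' ⟶ T),
    lift (sm a₁ g e) t ≫ (show E₁ ⊗ T ⟶ E₂ from φ) = sm a₂ g (lift e t ≫ (show E₁ ⊗ T ⟶ E₂ from φ))

lemma isEqv_map {T T' : Over X} (f : T' ⟶ T) (φ : (famF E₁ E₂).obj (op T)) (h : IsEqv a₁ a₂ T φ) :
    IsEqv a₁ a₂ T' ((famF E₁ E₂).map f.op φ) := by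
  intro T'' g e t
  change lift (sm a₁ g e) t ≫ (E₁ ◁ f) ≫ _ = sm a₂ g (lift e t ≫ (E₁ ◁ f) ≫ _)
  rw [lift_whiskerLeft_assoc, lift_whiskerLeft_assoc]
  exact h g e (t ≫ f)

/-- the functor of equivariant morphisms -/
noncomputable def eqvF : (Over X)ᵒᵖ ⥤ Type u := subF (famF E₁ E₂) (IsEqv a₁ a₂) (isEqv_map a₁ a₂)

theorem isEtSheaf_eqvF : IsEtSheaf (eqvF a₁ a₂) := by
  refine isEtSheaf_subF (isEtSheaf_famF E₁ E₂) (isEqv_map a₁ a₂) ?_
  intro T J T' f hf hT φ hφ T'' g e t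
  refine hom_ext_cover T' f hf hT t _ _ ?_
  intro i R p q hpq
  have h := hφ i (p ≫ g) (p ≫ e) q
  change lift (sm a₁ (p ≫ g) (p ≫ e)) q ≫ (E₁ ◁ f i) ≫ _ =
    sm a₂ (p ≫ g) (lift (p ≫ e) q ≫ (E₁ ◁ f i) ≫ _) at h
  rw [lift_whiskerLeft_assoc, lift_whiskerLeft_assoc, ← hpq, ← comp_sm, ← comp_lift, ← comp_lift,
    Category.assoc, Category.assoc, ← comp_sm] at h
  exact h

section Local

variable (h₁ : Tr a₁) (h₂ : Tr a₂) {V : X.Opens} (s₁ : O V ⟶ E₁) (s₂ : O V ⟶ E₂)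

/-- equivariant morphisms over `V` where both torsors are trivial -/
noncomputable def eqvEquiv {T : Over X} (τ : T ⟶ O V) : (T ⟶ G) ≃ (eqvF a₁ a₂).obj (op T) where
  toFun c := ⟨(show E₁ ⊗ T ⟶ E₂ from
      sm a₂ (K554.Fpqc.dif ((tr_iff a₁).1 h₁) (fst E₁ T) (snd E₁ T ≫ τ ≫ s₁) * (snd E₁ T ≫ c))
        (snd E₁ T ≫ τ ≫ s₂)), by
    intro T' g e t
    change lift (sm a₁ g e) t ≫ sm a₂ _ _ = sm a₂ g (lift e t ≫ sm a₂ _ _)
    rw [comp_sm, comp_sm, comp_mul, comp_mul, K554.Fpqc.comp_dif, K554.Fpqc.comp_dif]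
    simp only [lift_fst, lift_snd_assoc]
    rw [K554.Fpqc.dif_sm_left, ← mul_sm, _root_.mul_assoc]⟩
  invFun φ := K554.Fpqc.dif ((tr_iff a₂).1 h₂) (lift (τ ≫ s₁) (𝟙 T) ≫ (show E₁ ⊗ T ⟶ E₂ from φ.1)) (τ ≫ s₂)
  left_inv c := by
    apply K554.Fpqc.dif_eq
    change _ = lift (τ ≫ s₁) (𝟙 T) ≫ sm a₂ _ _
    rw [comp_sm, comp_mul, K554.Fpqc.comp_dif]
    simp only [lift_fst, lift_snd_assoc, Category.id_comp]
    rw [K554.Fpqc.dif_self, _root_.one_mul]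
  right_inv φ := by
    apply Subtype.ext
    change sm a₂ _ _ = (show E₁ ⊗ T ⟶ E₂ from φ.1)
    rw [K554.Fpqc.comp_dif, mul_sm, K554.Fpqc.sm_dif]
    have h := φ.2 (K554.Fpqc.dif ((tr_iff a₁).1 h₁) (fst E₁ T) (snd E₁ T ≫ τ ≫ s₁)) (snd E₁ T ≫ τ ≫ s₁) (snd E₁ T)
    rw [K554.Fpqc.sm_dif, lift_fst_snd, Category.id_comp] at h
    have e : lift (snd E₁ T ≫ τ ≫ s₁) (snd E₁ T) = snd E₁ T ≫ lift (τ ≫ s₁) (𝟙 T) := by
      rw [comp_lift, Category.comp_id]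
    rw [e, Category.assoc] at h
    exact h.symm

lemma eqvEquiv_comp {T T' : Over X} (τ : T ⟶ O V) (τ' : T' ⟶ O V) (f : T' ⟶ T) (c : T ⟶ G) :
    eqvEquiv a₁ a₂ h₁ h₂ s₁ s₂ τ' (f ≫ c) = (eqvF a₁ a₂).map f.op (eqvEquiv a₁ a₂ h₁ h₂ s₁ s₂ τ c) := by
  apply Subtype.ext
  change sm a₂ _ _ = (E₁ ◁ f) ≫ sm a₂ _ _
  rw [comp_sm, comp_mul, K554.Fpqc.comp_dif]
  simp only [whiskerLeft_fst, whiskerLeft_snd_assoc]
  rw [o_uniq τ' (f ≫ τ), Category.assoc, Category.assoc]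

end Local

section Rep

variable {A : Type*}

/-- base change of a representing object -/
noncomputable def repPull {S V : Scheme.{u}} {F : (Over S)ᵒᵖ ⥤ Type u} {A : Over S} (r : F.RepresentableBy A)
    (v : V ⟶ S) : ((Over.map v).op ⋙ F).RepresentableBy ((Over.pullback v).obj A) where
  homEquiv {T} := ((Over.mapPullbackAdj v).homEquiv T A).symm.trans r.homEquiv
  homEquiv_comp {T T'} f g := by
    change r.homEquiv (((Over.mapPullbackAdj v).homEquiv T A).symm (f ≫ g)) =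
      F.map _ (r.homEquiv (((Over.mapPullbackAdj v).homEquiv T' A).symm g))
    rw [Adjunction.homEquiv_naturality_left_symm, r.homEquiv_comp]
    rfl

variable {V W : X.Opens} (h : V ≤ W)

/-- the structure morphism of `T` regarded over `X` -/
noncomputable def toV (T : Over (V : Scheme.{u})) :
    (Over.map W.ι).obj ((Over.map (X.homOfLE h)).obj T) ⟶ O V :=
  Over.homMk T.hom (by
    change T.hom ≫ V.ι = (T.hom ≫ X.homOfLE h) ≫ W.ι
    rw [Category.assoc, Scheme.homOfLE_ι])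

/-- comparison of the two ways to regard `T` over `X` -/
noncomputable def cmpV (T : Over (V : Scheme.{u})) :
    (Over.map W.ι).obj ((Over.map (X.homOfLE h)).obj T) ≅ (Over.map V.ι).obj T :=
  Over.isoMk (Iso.refl _) (by
    change 𝟙 _ ≫ T.hom ≫ V.ι = (T.hom ≫ X.homOfLE h) ≫ W.ι
    rw [Category.id_comp, Category.assoc, Scheme.homOfLE_ι])

variable (h₁ : Tr a₁) (h₂ : Tr a₂) (s₁ : O V ⟶ E₁) (s₂ : O V ⟶ E₂)

/-- over `V` the functor is represented by `G`. -/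
noncomputable def repV :
    ((Over.map (X.homOfLE h)).op ⋙ (Over.map W.ι).op ⋙ eqvF a₁ a₂).RepresentableBy (Red.bc V.ι G) where
  homEquiv {T} := (((Over.mapPullbackAdj V.ι).homEquiv T G).symm.trans
    ((Iso.homFromEquiv (cmpV h T).symm))).trans (eqvEquiv a₁ a₂ h₁ h₂ s₁ s₂ (toV h T))
  homEquiv_comp {T T'} f g := by
    change eqvEquiv a₁ a₂ h₁ h₂ s₁ s₂ (toV h T) ((cmpV h T).hom ≫
        ((Over.mapPullbackAdj V.ι).homEquiv T G).symm (f ≫ g)) =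
      (eqvF a₁ a₂).map ((Over.map W.ι).map ((Over.map (X.homOfLE h)).map f)).op
        (eqvEquiv a₁ a₂ h₁ h₂ s₁ s₂ (toV h T') ((cmpV h T').hom ≫
          ((Over.mapPullbackAdj V.ι).homEquiv T' G).symm g))
    rw [← eqvEquiv_comp a₁ a₂ h₁ h₂ s₁ s₂ (toV h T') (toV h T), Adjunction.homEquiv_naturality_left_symm]
    congr 1

end Rep

/-- a property of morphisms local at the target can be checked on neighbourhoods -/
theorem prop_of_local (P : MorphismProperty Scheme.{u}) [IsZariskiLocalAtTarget P] {Y W : Scheme.{u}}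
    (f : Y ⟶ W) (h : ∀ w : W, ∃ (V : Scheme.{u}) (v : V ⟶ W), IsOpenImmersion v ∧ w ∈ Set.range v ∧
      P (pullback.snd f v)) : P f := by
  choose V v hv hw hP using h
  let 𝒰 : W.OpenCover := Scheme.Cover.mkOfCovers (J := W) V v (fun x => ⟨x, by
    obtain ⟨y, hy⟩ := hw x
    exact ⟨y, hy⟩⟩) (fun x => hv x)
  rw [IsZariskiLocalAtTarget.iff_of_openCover (P := P) 𝒰]
  exact hP

/-- **The scheme of equivariant morphisms.** -/
theorem exists_rep (h₁ : Tr a₁) (h₂ : Tr a₂) (W : X.Opens)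
    (hl₁ : ∀ x ∈ W, ∃ V : X.Opens, x ∈ V ∧ Nonempty (O V ⟶ E₁))
    (hl₂ : ∀ x ∈ W, ∃ V : X.Opens, x ∈ V ∧ Nonempty (O V ⟶ E₂)) [Smooth G.hom] [IsAffineHom G.hom] :
    ∃ A : Over (W : Scheme.{u}), Nonempty (((Over.map W.ι).op ⋙ eqvF a₁ a₂).RepresentableBy A) ∧
      Smooth A.hom ∧ IsAffineHom A.hom := by
  have hloc : ∀ w : W, ∃ (V : X.Opens) (h : V ≤ W) (_ : w ∈ Set.range (X.homOfLE h)) (_ : IsAffineOpen V),
      Nonempty (((Over.map (X.homOfLE h)).op ⋙ (Over.map W.ι).op ⋙ eqvF a₁ a₂).RepresentableBy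
        (Red.bc V.ι G)) := by
    intro w
    obtain ⟨V₁, hV₁, ⟨s₁⟩⟩ := hl₁ w.1 w.2
    obtain ⟨V₂, hV₂, ⟨s₂⟩⟩ := hl₂ w.1 w.2
    obtain ⟨V, hV, hwV, hVs⟩ := exists_isAffineOpen_mem_and_subset (x := w.1) (U := W ⊓ V₁ ⊓ V₂)
      ⟨⟨w.2, hV₁⟩, hV₂⟩
    have hle : V ≤ W := fun x hx => (hVs hx).1.1
    have hle1 : V ≤ V₁ := fun x hx => (hVs hx).1.2
    have hle2 : V ≤ V₂ := fun x hx => (hVs hx).2
    refine ⟨V, hle, ?_, hV, ⟨repV a₁ a₂ hle h₁ h₂ (incl hle1 ≫ s₁) (incl hle2 ≫ s₂)⟩⟩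
    refine ⟨⟨w.1, hwV⟩, ?_⟩
    apply W.ι.isOpenEmbedding.injective
    rw [← Scheme.Hom.comp_apply, Scheme.homOfLE_ι]
    rfl
  obtain ⟨A, ⟨r⟩⟩ := exists_representableBy_of_etale (isEtSheaf_restrict (isEtSheaf_eqvF a₁ a₂) W.ι) (by
    intro w
    obtain ⟨V, h, hw, hV, ⟨r⟩⟩ := hloc w
    refine ⟨V, X.homOfLE h, inferInstance, hw, _, ⟨r⟩, ?_⟩
    intro U hU
    have : IsAffine (V : Scheme.{u}) := hV
    have : IsAffineHom (pullback.snd G.hom V.ι) := MorphismProperty.pullback_snd _ _ inferInstance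
    have : IsAffine (Red.bc V.ι G).left := isAffine_of_isAffineHom (pullback.snd G.hom V.ι)
    have h3 : CompactSpace U := isCompact_iff_compactSpace.1 hU
    exact Scheme.IsQuasiAffine.of_isImmersion U.ι)
  have key : ∀ (P : MorphismProperty Scheme.{u}) [IsZariskiLocalAtTarget P] [P.IsStableUnderBaseChange],
      P G.hom → P A.hom := by
    intro P _ _ hP
    refine prop_of_local P A.hom fun w => ?_
    obtain ⟨V, h, hw, hV, ⟨r'⟩⟩ := hloc w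
    refine ⟨V, X.homOfLE h, inferInstance, hw, ?_⟩
    let e : (Over.pullback (X.homOfLE h)).obj A ≅ Red.bc V.ι G := (repPull r (X.homOfLE h)).uniqueUpToIso r'
    have h4 : e.hom.left ≫ pullback.snd G.hom V.ι = pullback.snd A.hom (X.homOfLE h) := Over.w e.hom
    rw [← h4]
    have : IsIso e.hom.left := inferInstance
    rw [P.cancel_left_of_respectsIso]
    exact P.pullback_snd _ _ hP
  exact ⟨A, ⟨r⟩, key @Smooth inferInstance, key @IsAffineHom inferInstance⟩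

end K976.EqvRep
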