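import Groth.Agent.NonAbH1.K552.GlueTors
import Groth.Agent.Sga3B.RepDescent7

/-!
# Local lifts of a torsor along a thickening: pointwise calculus

`F` is a scheme over `X` with an action of `G`, simply transitive on points (think of a torsor over a
subscheme `I` of `X`, regarded over `X`). A lift of `F` over an open `V` of `X` is a `G`-torsor `E` over `V`
with an equivariant morphism `r : E × I ⟶ F`.
-/

set_option autoImplicit false
universe u

open CategoryTheory CategoryTheory.Limits MonoidalCategory CartesianMonoidalCategory MonObj GrpObj AlgebraicGeometry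
open Groth.Agent.Books.BorelOrb

namespace K976.Lft

variable {X : Scheme.{u}}

/-- an open as a scheme over `X` -/
noncomputable abbrev O (V : X.Opens) : Over X := Over.mk V.ι

lemma o_uniq {V : X.Opens} {T : Over X} (a b : T ⟶ O V) : a = b := K552.Glue.mono_over _ a b

/-- inclusion of opens -/
noncomputable def incl {V W : X.Opens} (h : V ≤ W) : O V ⟶ O W := Over.homMk (X.homOfLE h) (by simp)

lemma mem_of_toO {V : X.Opens} {T : Over X} (u : T ⟶ O V) (t : T.left) : T.hom t ∈ V := by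
  have h := Over.w u
  have h2 : T.hom t = V.ι (u.left t) := by
    rw [← h]
    rfl
  rw [h2]
  exact (u.left t).2

/-- maps to an open -/
lemma exists_toO {V : X.Opens} {T : Over X} (h : ∀ t : T.left, T.hom t ∈ V) : Nonempty (T ⟶ O V) := by
  have h1 : Set.range T.hom ⊆ Set.range V.ι := by
    rintro _ ⟨t, rfl⟩
    simpa using h t
  exact ⟨Over.homMk (IsOpenImmersion.lift V.ι T.hom h1) (IsOpenImmersion.lift_fac _ _ _)⟩

lemma etale_fst (T : Over X) (V : X.Opens) : Etale (fst T (O V)).left := by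
  have : IsOpenImmersion (fst T (O V)).left := K552.Glue.isOpenImmersion_fst V.ι T
  infer_instance

/-- **Local to global construction of morphisms.** -/
theorem exists_of_local {T Y : Over X} (P : ∀ {T' : Over X}, (T' ⟶ T) → (T' ⟶ Y) → Prop)
    (hP : ∀ {T' T'' : Over X} (s : T'' ⟶ T') (t : T' ⟶ T) (y : T' ⟶ Y), P t y → P (s ≫ t) (s ≫ y))
    (hu : ∀ {T' : Over X} (t : T' ⟶ T) (y y' : T' ⟶ Y), P t y → P t y' → y = y')
    (hloc : ∀ t : T.left, ∃ V : X.Opens, T.hom t ∈ V ∧ ∃ y : T ⊗ O V ⟶ Y, P (fst _ _) y) :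
    ∃ y : T ⟶ Y, ∀ t : T.left, ∃ V : X.Opens, T.hom t ∈ V ∧ P (fst T (O V)) (fst T (O V) ≫ y) := by
  choose V hV y hy using hloc
  obtain ⟨z, hz, -⟩ := Groth.Agent.Sga3B.RepDescent.isEtSheaf_yoneda Y (T := T) (fun t : T.left => T ⊗ O (V t))
    (fun t => fst _ _) (fun t => etale_fst T (V t)) (fun t => by
      have h1 : T.hom t ∈ Set.range (V t).ι := by simpa using hV t
      obtain ⟨z, hz⟩ := K552.Glue.mem_range_fst (V t).ι T t h1
      exact ⟨t, z, hz⟩) y (by
      intro s t R a b hab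
      have e1 := hP a _ _ (hy s)
      have e2 := hP b _ _ (hy t)
      rw [hab] at e1
      exact hu _ _ _ e1 e2)
  refine ⟨z, fun t => ⟨V t, hV t, ?_⟩⟩
  have h1 : fst T (O (V t)) ≫ z = y t := hz t
  rw [h1]
  exact hy t

/-- morphisms which agree locally are equal -/
theorem hom_ext_local {T Y : Over X} {y y' : T ⟶ Y}
    (h : ∀ t : T.left, ∃ V : X.Opens, T.hom t ∈ V ∧ fst T (O V) ≫ y = fst T (O V) ≫ y') : y = y' := by
  choose V hV hy using h
  obtain ⟨z, -, hz'⟩ := Groth.Agent.Sga3B.RepDescent.isEtSheaf_yoneda Y (T := T) (fun t : T.left => T ⊗ O (V t))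
    (fun t => fst _ _) (fun t => etale_fst T (V t)) (fun t => by
      have h1 : T.hom t ∈ Set.range (V t).ι := by simpa using hV t
      obtain ⟨z, hz⟩ := K552.Glue.mem_range_fst (V t).ι T t h1
      exact ⟨t, z, hz⟩) (fun t => fst T (O (V t)) ≫ y) (by
      intro s t R a b hab
      change a ≫ fst T (O (V s)) ≫ y = b ≫ fst T (O (V t)) ≫ y
      rw [← Category.assoc, hab, Category.assoc])
  exact (hz' y fun t => rfl).trans (hz' y' fun t => (hy t).symm).symm

section

variable {G : Over X} [GrpObj G] {E E' Y : Over X}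

/-- the action on the first factor of a product -/
noncomputable def resAct (a : AlgGrp.Action G E) (Y : Over X) : AlgGrp.Action G (E ⊗ Y) :=
  K552.Push.ofPoints (fun {T} g x => lift (sm a g (x ≫ fst _ _)) (x ≫ snd _ _))
    (by
      intro T T' t g x
      rw [comp_lift, comp_sm, Category.assoc, Category.assoc])
    (by
      intro T x
      rw [one_sm, ← comp_lift, lift_fst_snd, Category.comp_id])
    (by
      intro T g h x
      rw [mul_sm, lift_fst, lift_snd])

lemma sm_resAct (a : AlgGrp.Action G E) {T : Over X} (g : T ⟶ G) (e : T ⟶ E) (y : T ⟶ Y) :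
    sm (resAct a Y) g (lift e y) = lift (sm a g e) y := by
  have h := K552.Push.sm_ofPoints (G := G) (X := E ⊗ Y)
    (fun {T} g x => lift (sm a g (x ≫ fst _ _)) (x ≫ snd _ _)) (by
      intro T T' t g x
      rw [comp_lift, comp_sm, Category.assoc, Category.assoc])
    (by
      intro T x
      rw [one_sm, ← comp_lift, lift_fst_snd, Category.comp_id])
    (by
      intro T g h x
      rw [mul_sm, lift_fst, lift_snd]) g (lift e y)
  refine h.trans ?_
  simp only [lift_fst, lift_snd]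

lemma sm_resAct' (a : AlgGrp.Action G E) {T : Over X} (g : T ⟶ G) (x : T ⟶ E ⊗ Y) :
    sm (resAct a Y) g x = lift (sm a g (x ≫ fst _ _)) (x ≫ snd _ _) := by
  conv_lhs => rw [show x = lift (x ≫ fst _ _) (x ≫ snd _ _) by rw [← comp_lift, lift_fst_snd, Category.comp_id]]
  rw [sm_resAct]

/-- simply transitive on points -/
def Tr (a : AlgGrp.Action G E) : Prop := ∀ {T : Over X} (x y : T ⟶ E), ∃! g : T ⟶ G, sm a g y = x

lemma tr_iff (a : AlgGrp.Action G E) : Tr a ↔ NonAbH1.IsPseudoTorsorSch a :=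
  (K554.Fpqc.isPseudoTorsorSch_iff a).symm

lemma Tr.eq {a : AlgGrp.Action G E} (h : Tr a) {T : Over X} {g g' : T ⟶ G} {y : T ⟶ E}
    (e : sm a g y = sm a g' y) : g = g' := (h (sm a g' y) y).unique e rfl

variable {I F : Over X} {b : AlgGrp.Action G F}

/-- a lift of `F` over `V` -/
structure IsLft (b : AlgGrp.Action G F) (V : X.Opens) (a : AlgGrp.Action G E) (r : E ⊗ I ⟶ F) : Prop where
  tr : Tr a
  loc : ∀ x ∈ V, ∃ W : X.Opens, x ∈ W ∧ Nonempty (O W ⟶ E)
  ov : Nonempty (E ⟶ O V)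
  eqv : ∀ {T : Over X} (g : T ⟶ G) (e : T ⟶ E) (t : T ⟶ I), lift (sm a g e) t ≫ r = sm b g (lift e t ≫ r)

namespace IsLft

variable {V : X.Opens} {a : AlgGrp.Action G E} {r : E ⊗ I ⟶ F}

/-- a point of `F` over `V` comes from a unique point of `E`. -/
theorem existsUnique (H : IsLft b V a r) (hb : Tr b) {T : Over X} (f : T ⟶ F) (t : T ⟶ I) (v : T ⟶ O V) :
    ∃! e : T ⟶ E, lift e t ≫ r = f := by
  have hu : ∀ {T' : Over X} (s : T' ⟶ T) (y y' : T' ⟶ E), lift y (s ≫ t) ≫ r = s ≫ f →
      lift y' (s ≫ t) ≫ r = s ≫ f → y = y' := by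
    intro T' s y y' h h'
    obtain ⟨g, hg, -⟩ := H.tr y y'
    have h1 : g = 1 := by
      apply hb.eq (y := s ≫ f)
      rw [one_sm]
      conv_lhs => rw [← h']
      rw [← H.eqv, hg, h]
    rw [← hg, h1, one_sm]
  obtain ⟨e, he⟩ := exists_of_local (T := T) (Y := E) (fun {T'} s y => lift y (s ≫ t) ≫ r = s ≫ f)
    (by
      intro T' T'' s' s y h
      rw [Category.assoc, Category.assoc, ← comp_lift, Category.assoc, h])
    hu
    (by
      intro x
      obtain ⟨W, hW, ⟨s⟩⟩ := H.loc _ (mem_of_toO v x)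
      refine ⟨W, hW, ?_⟩
      obtain ⟨g, hg, -⟩ := hb (fst T (O W) ≫ f) (lift (snd T (O W) ≫ s) (fst T (O W) ≫ t) ≫ r)
      exact ⟨sm a g (snd T (O W) ≫ s), by rw [H.eqv]; exact hg⟩)
  refine ⟨e, ?_, ?_⟩
  · refine hom_ext_local fun x => ?_
    obtain ⟨W, hW, h⟩ := he x
    refine ⟨W, hW, ?_⟩
    rw [← h, ← Category.assoc, comp_lift]
  · intro e' he'
    have := hu (𝟙 T) e e' ?_ (by simpa using he')
    · exact this.symm
    · rw [Category.id_comp, Category.id_comp]
      refine hom_ext_local fun x => ?_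
      obtain ⟨W, hW, h⟩ := he x
      refine ⟨W, hW, ?_⟩
      rw [← h, ← Category.assoc, comp_lift]

/-- restriction of a lift -/
theorem restrict (H : IsLft b V a r) {W : X.Opens} (h : W ≤ V) :
    IsLft b W (resAct a (O W)) (lift (fst _ _ ≫ fst _ _) (snd _ _) ≫ r : (E ⊗ O W) ⊗ I ⟶ F) where
  tr := by
    intro T x y
    obtain ⟨g, hg, hg'⟩ := H.tr (x ≫ fst _ _) (y ≫ fst _ _)
    refine ⟨g, ?_, ?_⟩
    · change sm (resAct a (O W)) g y = x
      rw [sm_resAct', hg]
      apply CartesianMonoidalCategory.hom_ext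
      · rw [lift_fst]
      · exact o_uniq _ _
    · intro g' e
      apply hg'
      change sm (resAct a (O W)) g' y = x at e
      rw [← e, sm_resAct', lift_fst]
  loc := by
    intro x hx
    obtain ⟨W', hW', ⟨s⟩⟩ := H.loc x (h hx)
    refine ⟨W' ⊓ W, ⟨hW', hx⟩, ⟨lift (incl inf_le_left ≫ s) (incl inf_le_right)⟩⟩
  ov := ⟨snd _ _⟩
  eqv := by
    intro T g e t
    rw [sm_resAct', ← Category.assoc, ← Category.assoc, comp_lift, comp_lift]
    simp only [lift_fst_assoc, lift_snd, lift_fst]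
    rw [H.eqv]

end IsLft

/-- there is a lift over `V` -/
def HasLft (b : AlgGrp.Action G F) (I : Over X) (V : X.Opens) : Prop :=
  ∃ (E : Over X) (a : AlgGrp.Action G E) (r : E ⊗ I ⟶ F), IsLft b V a r

lemma HasLft.mono {V W : X.Opens} (H : HasLft b I V) (h : W ≤ V) : HasLft b I W := by
  obtain ⟨E, a, r, H⟩ := H
  exact ⟨_, _, _, H.restrict h⟩

/-- a lift over an open over which there is a point of `F` -/
theorem hasLft_of_section {V : X.Opens} (s : O V ⊗ I ⟶ F) : HasLft b I V := by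
  refine ⟨G ⊗ O V, resAct (NonAbH1.trivialAction G) (O V),
    sm b (fst _ _ ≫ fst _ _) (lift (fst _ _ ≫ snd _ _) (snd _ _) ≫ s), ?_, ?_, ⟨snd _ _⟩, ?_⟩
  · intro T x y
    refine ⟨(x ≫ fst _ _) * (y ≫ fst _ _)⁻¹, ?_, ?_⟩
    · change sm (resAct (NonAbH1.trivialAction G) (O V)) _ y = x
      rw [sm_resAct', K554.Fpqc.sm_trivialAction]
      apply CartesianMonoidalCategory.hom_ext
      · rw [lift_fst, inv_mul_cancel_right]
      · exact o_uniq _ _
    · intro g' e
      change sm (resAct (NonAbH1.trivialAction G) (O V)) g' y = x at e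
      rw [← e, sm_resAct', K554.Fpqc.sm_trivialAction, lift_fst, mul_inv_cancel_right]
  · intro x hx
    exact ⟨V, hx, ⟨lift 1 (𝟙 _)⟩⟩
  · intro T g e t
    rw [comp_sm, comp_sm, ← mul_sm]
    simp only [← Category.assoc, lift_fst, comp_lift, lift_snd]
    rw [sm_resAct', K554.Fpqc.sm_trivialAction, lift_fst, lift_snd]

end

end K976.Lft
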