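import Groth.Agent.NonAbH1.K976.Lft

/-!
# Gluing of lifts of a torsor along two opens
-/

set_option autoImplicit false
universe u

open CategoryTheory CategoryTheory.Limits MonoidalCategory CartesianMonoidalCategory MonObj GrpObj AlgebraicGeometry
open Groth.Agent.Books.BorelOrb

namespace K976.LftGlue

open K976.Lft

variable {X : Scheme.{u}}

section Two

variable {V₁ V₂ : X.Opens}

theorem hom_ext_two {T Y : Over X} (u : T ⟶ O (V₁ ⊔ V₂)) {y y' : T ⟶ Y}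
    (h₁ : fst T (O V₁) ≫ y = fst T (O V₁) ≫ y') (h₂ : fst T (O V₂) ≫ y = fst T (O V₂) ≫ y') : y = y' := by
  refine hom_ext_local fun t => ?_
  rcases mem_of_toO u t with h | h
  · exact ⟨V₁, h, h₁⟩
  · exact ⟨V₂, h, h₂⟩

lemma cov_fst {T : Over X} (u : T ⟶ O (V₁ ⊔ V₂)) (x : T.left) :
    x ∈ Set.range (fst T (O V₁)).left ∨ x ∈ Set.range (fst T (O V₂)).left := by
  rcases mem_of_toO u x with h | h
  · exact Or.inl (K552.Glue.mem_range_fst V₁.ι T x (by simpa using h))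
  · exact Or.inr (K552.Glue.mem_range_fst V₂.ι T x (by simpa using h))

theorem exists_glue_two {T Y : Over X} (u : T ⟶ O (V₁ ⊔ V₂)) (x₁ : T ⊗ O V₁ ⟶ Y) (x₂ : T ⊗ O V₂ ⟶ Y)
    (h : ∀ {Z : Over X} (t : Z ⟶ T) (v₁ : Z ⟶ O V₁) (v₂ : Z ⟶ O V₂), lift t v₁ ≫ x₁ = lift t v₂ ≫ x₂) :
    ∃ x : T ⟶ Y, fst T (O V₁) ≫ x = x₁ ∧ fst T (O V₂) ≫ x = x₂ := by
  have : IsOpenImmersion (fst T (O V₁)).left := K552.Glue.isOpenImmersion_fst V₁.ι T
  have : IsOpenImmersion (fst T (O V₂)).left := K552.Glue.isOpenImmersion_fst V₂.ι T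
  obtain ⟨f, hf₁, hf₂⟩ := K552.Glue.exists_glue_two (fst T (O V₁)).left (fst T (O V₂)).left
    (cov_fst u) x₁.left x₂.left (by
      intro Z a b e
      let a' : Over.mk (a ≫ (T ⊗ O V₁).hom) ⟶ T ⊗ O V₁ := Over.homMk a rfl
      let b' : Over.mk (a ≫ (T ⊗ O V₁).hom) ⟶ T ⊗ O V₂ := Over.homMk b (by
        have e1 := Over.w (fst T (O V₁))
        have e2 := Over.w (fst T (O V₂))
        rw [← e1, ← e2, ← Category.assoc, ← Category.assoc, e]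
        rfl)
      have e3 : a' ≫ fst _ _ = b' ≫ fst _ _ := by ext; simpa [a', b'] using e
      have h1 := h (a' ≫ fst _ _) (a' ≫ snd _ _) (b' ≫ snd _ _)
      rw [← comp_lift, lift_fst_snd, Category.comp_id, e3, ← comp_lift, lift_fst_snd, Category.comp_id] at h1
      simpa [a', b'] using congrArg (fun f => f.left) h1)
  have hw : f ≫ Y.hom = T.hom := by
    refine K552.Glue.hom_ext_two (fst T (O V₁)).left (fst T (O V₂)).left (cov_fst u) ?_ ?_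
    · rw [← Category.assoc, hf₁, Over.w, Over.w]
    · rw [← Category.assoc, hf₂, Over.w, Over.w]
  exact ⟨Over.homMk f hw, by ext; simpa using hf₁, by ext; simpa using hf₂⟩

end Two

section Act

variable {V₁ V₂ : X.Opens} {G P Q₁ Q₂ : Over X} [GrpObj G] (j₁ : Q₁ ⟶ P) (j₂ : Q₂ ⟶ P) (u : P ⟶ O (V₁ ⊔ V₂))
  (p₁ : Q₁ ⟶ O V₁) (p₂ : Q₂ ⟶ O V₂)
  [Mono j₁] [Mono j₂]
  (hl₁ : ∀ {T : Over X} (x : T ⟶ P) (_ : T ⟶ O V₁), ∃ q : T ⟶ Q₁, q ≫ j₁ = x)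
  (hl₂ : ∀ {T : Over X} (x : T ⟶ P) (_ : T ⟶ O V₂), ∃ q : T ⟶ Q₂, q ≫ j₂ = x)
  (a₁ : AlgGrp.Action G Q₁) (a₂ : AlgGrp.Action G Q₂)
  (hc : ∀ {T : Over X} (g : T ⟶ G) (q₁ : T ⟶ Q₁) (q₂ : T ⟶ Q₂), q₁ ≫ j₁ = q₂ ≫ j₂ →
    sm a₁ g q₁ ≫ j₁ = sm a₂ g q₂ ≫ j₂)

include u p₁ p₂ hl₁ hl₂ hc in
/-- The glued action on points. -/
theorem exists_point {T : Over X} (g : T ⟶ G) (x : T ⟶ P) :
    ∃ y : T ⟶ P, (∀ {T' : Over X} (t : T' ⟶ T) (q : T' ⟶ Q₁), t ≫ x = q ≫ j₁ → t ≫ y = sm a₁ (t ≫ g) q ≫ j₁) ∧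
      (∀ {T' : Over X} (t : T' ⟶ T) (q : T' ⟶ Q₂), t ≫ x = q ≫ j₂ → t ≫ y = sm a₂ (t ≫ g) q ≫ j₂) := by
  obtain ⟨q₁, hq₁⟩ := hl₁ (fst T (O V₁) ≫ x) (snd _ _)
  obtain ⟨q₂, hq₂⟩ := hl₂ (fst T (O V₂) ≫ x) (snd _ _)
  obtain ⟨y, hy₁, hy₂⟩ := exists_glue_two (T := T) (x ≫ u) (sm a₁ (fst T (O V₁) ≫ g) q₁ ≫ j₁)
    (sm a₂ (fst T (O V₂) ≫ g) q₂ ≫ j₂) (by
      intro Z t v₁ v₂
      rw [← Category.assoc, ← Category.assoc, comp_sm, comp_sm, lift_fst_assoc, lift_fst_assoc]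
      refine hc _ _ _ ?_
      rw [Category.assoc, Category.assoc, hq₁, hq₂, lift_fst_assoc, lift_fst_assoc])
  refine ⟨y, ?_, ?_⟩
  · intro T' t q hq
    have hT : t = lift t (q ≫ p₁) ≫ fst T (O V₁) := (lift_fst _ _).symm
    have h1 : lift t (q ≫ p₁) ≫ q₁ = q := by
      rw [← cancel_mono j₁, Category.assoc, hq₁, ← Category.assoc, lift_fst, hq]
    conv_lhs => rw [hT]
    rw [Category.assoc, hy₁, ← Category.assoc, comp_sm, h1, ← Category.assoc, lift_fst]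
  · intro T' t q hq
    have hT : t = lift t (q ≫ p₂) ≫ fst T (O V₂) := (lift_fst _ _).symm
    have h1 : lift t (q ≫ p₂) ≫ q₂ = q := by
      rw [← cancel_mono j₂, Category.assoc, hq₂, ← Category.assoc, lift_fst, hq]
    conv_lhs => rw [hT]
    rw [Category.assoc, hy₂, ← Category.assoc, comp_sm, h1, ← Category.assoc, lift_fst]

include u p₁ p₂ hl₁ hl₂ hc in
/-- Gluing of actions. -/
theorem exists_action : ∃ a : AlgGrp.Action G P,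
    (∀ {T : Over X} (g : T ⟶ G) (q : T ⟶ Q₁), sm a g (q ≫ j₁) = sm a₁ g q ≫ j₁) ∧
    (∀ {T : Over X} (g : T ⟶ G) (q : T ⟶ Q₂), sm a g (q ≫ j₂) = sm a₂ g q ≫ j₂) := by
  choose s hs₁ hs₂ using fun (T : Over X) (g : T ⟶ G) (x : T ⟶ P) =>
    exists_point j₁ j₂ u p₁ p₂ hl₁ hl₂ a₁ a₂ hc g x
  -- uniqueness
  have hu : ∀ {T : Over X} (g : T ⟶ G) (x y : T ⟶ P),
      (∀ {T' : Over X} (t : T' ⟶ T) (q : T' ⟶ Q₁), t ≫ x = q ≫ j₁ → t ≫ y = sm a₁ (t ≫ g) q ≫ j₁) →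
      (∀ {T' : Over X} (t : T' ⟶ T) (q : T' ⟶ Q₂), t ≫ x = q ≫ j₂ → t ≫ y = sm a₂ (t ≫ g) q ≫ j₂) →
      y = s T g x := by
    intro T g x y h₁ h₂
    refine hom_ext_two (x ≫ u) ?_ ?_
    · obtain ⟨q, hq⟩ := hl₁ (fst T (O V₁) ≫ x) (snd _ _)
      rw [h₁ _ q hq.symm, hs₁ _ _ _ _ q hq.symm]
    · obtain ⟨q, hq⟩ := hl₂ (fst T (O V₂) ≫ x) (snd _ _)
      rw [h₂ _ q hq.symm, hs₂ _ _ _ _ q hq.symm]
  let a : AlgGrp.Action G P := K552.Push.ofPoints (fun {T} g x => s T g x)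
    (by
      intro T T' t g x
      refine hu _ _ _ ?_ ?_
      · intro T'' t' q hq
        rw [← Category.assoc, ← Category.assoc]
        refine hs₁ _ _ _ _ _ ?_
        rw [Category.assoc, hq]
      · intro T'' t' q hq
        rw [← Category.assoc, ← Category.assoc]
        refine hs₂ _ _ _ _ _ ?_
        rw [Category.assoc, hq])
    (by
      intro T x
      refine (hu _ _ _ ?_ ?_).symm
      · intro T' t q hq
        rw [comp_one, one_sm, hq]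
      · intro T' t q hq
        rw [comp_one, one_sm, hq])
    (by
      intro T g h x
      refine (hu _ _ _ ?_ ?_).symm
      · intro T' t q hq
        have h1 := hs₁ _ h x t q hq
        rw [hs₁ _ _ _ _ _ h1, comp_mul, mul_sm]
      · intro T' t q hq
        have h1 := hs₂ _ h x t q hq
        rw [hs₂ _ _ _ _ _ h1, comp_mul, mul_sm])
  have ha : ∀ {T : Over X} (g : T ⟶ G) (x : T ⟶ P), sm a g x = s T g x := fun g x =>
    K552.Push.sm_ofPoints _ _ _ _ _ _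
  refine ⟨a, ?_, ?_⟩
  · intro T g q
    rw [ha]
    have := hs₁ _ g (q ≫ j₁) (𝟙 _) q (Category.id_comp _)
    simpa using this
  · intro T g q
    rw [ha]
    have := hs₂ _ g (q ≫ j₂) (𝟙 _) q (Category.id_comp _)
    simpa using this

include u hl₁ hl₂ in
/-- simple transitivity can be checked on the two opens -/
theorem tr_of_two (a : AlgGrp.Action G P)
    (ha₁ : ∀ {T : Over X} (g : T ⟶ G) (q : T ⟶ Q₁), sm a g (q ≫ j₁) = sm a₁ g q ≫ j₁)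
    (ha₂ : ∀ {T : Over X} (g : T ⟶ G) (q : T ⟶ Q₂), sm a g (q ≫ j₂) = sm a₂ g q ≫ j₂)
    (h₁ : Tr a₁) (h₂ : Tr a₂) : Tr a := by
  intro T x x'
  obtain ⟨q₁, hq₁⟩ := hl₁ (fst T (O V₁) ≫ x) (snd _ _)
  obtain ⟨q₂, hq₂⟩ := hl₂ (fst T (O V₂) ≫ x) (snd _ _)
  obtain ⟨q₁', hq₁'⟩ := hl₁ (fst T (O V₁) ≫ x') (snd _ _)
  obtain ⟨q₂', hq₂'⟩ := hl₂ (fst T (O V₂) ≫ x') (snd _ _)
  obtain ⟨g₁, hg₁, hu₁⟩ := h₁ q₁ q₁'
  obtain ⟨g₂, hg₂, hu₂⟩ := h₂ q₂ q₂'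
  simp only at hg₁ hg₂ hu₁ hu₂
  have e₁ : sm a g₁ (fst T (O V₁) ≫ x') = fst T (O V₁) ≫ x := by rw [← hq₁', ha₁, hg₁, hq₁]
  have e₂ : sm a g₂ (fst T (O V₂) ≫ x') = fst T (O V₂) ≫ x := by rw [← hq₂', ha₂, hg₂, hq₂]
  obtain ⟨g, hg, hg'⟩ := exists_glue_two (T := T) (x ≫ u) g₁ g₂ (by
    intro Z t v₁ v₂
    -- both carry the same point of `Q₁` to the same point
    have h3 := h₁ (lift t v₁ ≫ q₁) (lift t v₁ ≫ q₁')
    refine h3.unique ?_ ?_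
    · rw [← comp_sm, hg₁]
    · rw [← cancel_mono j₁, ← ha₁, Category.assoc, Category.assoc, hq₁, hq₁', lift_fst_assoc, lift_fst_assoc]
      have e3 := congrArg (fun z => lift t v₂ ≫ z) e₂
      simp only [comp_sm, lift_fst_assoc] at e3
      exact e3)
  refine ⟨g, ?_, ?_⟩
  · refine hom_ext_two (x ≫ u) ?_ ?_
    · rw [comp_sm, hg, e₁]
    · rw [comp_sm, hg', e₂]
  · intro g' hg''
    change sm a g' x' = x at hg''
    refine hom_ext_two (x ≫ u) ?_ ?_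
    · rw [hg]
      refine hu₁ _ ?_
      rw [← cancel_mono j₁, ← ha₁, hq₁', hq₁, ← comp_sm, hg'']
    · rw [hg']
      refine hu₂ _ ?_
      rw [← cancel_mono j₂, ← ha₂, hq₂', hq₂, ← comp_sm, hg'']

end Act

section Glue

variable {V₁ V₂ : X.Opens} {G E₁ E₂ I F : Over X} [GrpObj G] {b : AlgGrp.Action G F}
  {a₁ : AlgGrp.Action G E₁} {a₂ : AlgGrp.Action G E₂} {r₁ : E₁ ⊗ I ⟶ F} {r₂ : E₂ ⊗ I ⟶ F}
  (H₁ : IsLft b V₁ a₁ r₁) (H₂ : IsLft b V₂ a₂ r₂) (φ : E₁ ⊗ O V₂ ⟶ E₂)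
  (heq : ∀ {T : Over X} (g : T ⟶ G) (e : T ⟶ E₁) (v : T ⟶ O V₂),
    lift (sm a₁ g e) v ≫ φ = sm a₂ g (lift e v ≫ φ))
  (hcmp : ∀ {T : Over X} (e : T ⟶ E₁) (v : T ⟶ O V₂) (t : T ⟶ I),
    lift (lift e v ≫ φ) t ≫ r₂ = lift e t ≫ r₁)

include H₁ H₂ heq in
/-- the comparison morphism is bijective -/
theorem existsUnique_phi {T : Over X} (x : T ⟶ E₂) (v₁ : T ⟶ O V₁) (v₂ : T ⟶ O V₂) :
    ∃! e : T ⟶ E₁, lift e v₂ ≫ φ = x := by
  have hu : ∀ {T' : Over X} (s : T' ⟶ T) (y y' : T' ⟶ E₁), lift y (s ≫ v₂) ≫ φ = s ≫ x →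
      lift y' (s ≫ v₂) ≫ φ = s ≫ x → y = y' := by
    intro T' s y y' h h'
    obtain ⟨g, hg, -⟩ := H₁.tr y y'
    have h1 : g = 1 := by
      apply Tr.eq H₂.tr (y := s ≫ x)
      rw [one_sm]
      conv_lhs => rw [← h']
      rw [← heq, hg, h]
    rw [← hg, h1, one_sm]
  obtain ⟨e, he⟩ := exists_of_local (T := T) (Y := E₁) (fun {T'} s y => lift y (s ≫ v₂) ≫ φ = s ≫ x)
    (by
      intro T' T'' s' s y h
      rw [Category.assoc, Category.assoc, ← comp_lift, Category.assoc, h])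
    hu
    (by
      intro t
      obtain ⟨W, hW, ⟨s⟩⟩ := H₁.loc _ (mem_of_toO v₁ t)
      refine ⟨W, hW, ?_⟩
      obtain ⟨g, hg, -⟩ := H₂.tr (fst T (O W) ≫ x) (lift (snd T (O W) ≫ s) (fst T (O W) ≫ v₂) ≫ φ)
      exact ⟨sm a₁ g (snd T (O W) ≫ s), by rw [heq]; exact hg⟩)
  have he' : lift e v₂ ≫ φ = x := by
    refine hom_ext_local fun t => ?_
    obtain ⟨W, hW, h⟩ := he t
    refine ⟨W, hW, ?_⟩
    rw [← h, ← Category.assoc, comp_lift]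
  refine ⟨e, he', ?_⟩
  intro e' h'
  have := hu (𝟙 T) e e' (by simpa using he') (by simpa using h')
  exact this.symm

lemma isPullback_of_points {A B C D : Over X} {f : A ⟶ B} {g : A ⟶ C} {h : B ⟶ D} {k : C ⟶ D}
    (w : f ≫ h = g ≫ k)
    (H : ∀ {T : Over X} (x : T ⟶ B) (y : T ⟶ C), x ≫ h = y ≫ k → ∃ z : T ⟶ A, z ≫ f = x ∧ z ≫ g = y)
    (Hu : ∀ {T : Over X} (z z' : T ⟶ A), z ≫ f = z' ≫ f → z ≫ g = z' ≫ g → z = z') :
    IsPullback f.left g.left h.left k.left := by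
  have h1 : IsPullback f g h k := by
    refine ⟨⟨w⟩, ⟨PullbackCone.IsLimit.mk _ (fun s => (H s.fst s.snd s.condition).choose)
      (fun s => (H s.fst s.snd s.condition).choose_spec.1)
      (fun s => (H s.fst s.snd s.condition).choose_spec.2) ?_⟩⟩
    intro s m e1 e2
    apply Hu
    · rw [e1, (H s.fst s.snd s.condition).choose_spec.1]
    · rw [e2, (H s.fst s.snd s.condition).choose_spec.2]
  exact h1.map (Over.forget _)

include H₁ H₂ heq hcmp in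
/-- **Gluing of lifts.** -/
theorem hasLft_sup : HasLft b I (V₁ ⊔ V₂) := by
  obtain ⟨π₁⟩ := H₁.ov
  obtain ⟨π₂⟩ := H₂.ov
  have h₁ : IsPullback (fst E₁ (O V₂)).left (lift (fst E₁ (O V₂) ≫ π₁) (snd E₁ (O V₂))).left π₁.left
      (fst (O V₁) (O V₂)).left := by
    refine isPullback_of_points (by rw [lift_fst]) ?_ ?_
    · intro T x y _
      refine ⟨lift x (y ≫ snd _ _), lift_fst _ _, ?_⟩
      apply CartesianMonoidalCategory.hom_ext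
      · exact o_uniq _ _
      · exact o_uniq _ _
    · intro T z z' h _
      apply CartesianMonoidalCategory.hom_ext
      · exact h
      · exact o_uniq _ _
  have h₂ : IsPullback φ.left (lift (fst E₁ (O V₂) ≫ π₁) (snd E₁ (O V₂))).left π₂.left
      (snd (O V₁) (O V₂)).left := by
    refine isPullback_of_points (o_uniq _ _) ?_ ?_
    · intro T x y _
      obtain ⟨e, he, -⟩ := existsUnique_phi H₁ H₂ φ heq x (y ≫ fst _ _) (y ≫ snd _ _)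
      refine ⟨lift e (y ≫ snd _ _), he, ?_⟩
      apply CartesianMonoidalCategory.hom_ext
      · exact o_uniq _ _
      · exact o_uniq _ _
    · intro T z z' h _
      have e1 := existsUnique_phi H₁ H₂ φ heq (z ≫ φ) (z ≫ fst _ _ ≫ π₁) (z ≫ snd _ _)
      have e2 : z ≫ fst _ _ = z' ≫ fst _ _ := by
        refine e1.unique ?_ ?_
        · rw [← comp_lift, lift_fst_snd, Category.comp_id]
        · rw [o_uniq (z ≫ snd _ _) (z' ≫ snd _ _), ← comp_lift, lift_fst_snd, Category.comp_id, h]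
      apply CartesianMonoidalCategory.hom_ext
      · exact e2
      · exact o_uniq _ _
  have hW : IsPullback (fst (O V₁) (O V₂)).left (snd (O V₁) (O V₂)).left V₁.ι V₂.ι :=
    IsPullback.of_hasPullback V₁.ι V₂.ι
  obtain ⟨Y, π, k₁, k₂, hk₁, hk₂, hp₁, hp₂, hc, hcov⟩ := Groth.Agent.FlatA.GlueTwo.exists_glued hW h₁ h₂
  let P : Over X := Over.mk π
  let j₁ : E₁ ⟶ P := Over.homMk k₁ (by change k₁ ≫ π = _; rw [hp₁.w]; exact Over.w π₁)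
  let j₂ : E₂ ⟶ P := Over.homMk k₂ (by change k₂ ≫ π = _; rw [hp₂.w]; exact Over.w π₂)
  have hj₁ : Mono j₁ := by
    have : Mono j₁.left := inferInstanceAs (Mono k₁)
    exact Over.mono_of_mono_left j₁
  have hj₂ : Mono j₂ := by
    have : Mono j₂.left := inferInstanceAs (Mono k₂)
    exact Over.mono_of_mono_left j₂
  have hcond : fst _ _ ≫ j₁ = φ ≫ j₂ := by ext; exact hc
  obtain ⟨u⟩ : Nonempty (P ⟶ O (V₁ ⊔ V₂)) := by
    refine exists_toO fun t => ?_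
    rcases hcov t with ⟨y, rfl⟩ | ⟨y, rfl⟩
    · left
      have := mem_of_toO π₁ y
      have e : (k₁ ≫ π) y = E₁.hom y := congrArg (fun f : E₁.left ⟶ X => f y) (Over.w j₁)
      change π (k₁ y) ∈ _
      rw [← Scheme.Hom.comp_apply, e]
      exact this
    · right
      have := mem_of_toO π₂ y
      have e : (k₂ ≫ π) y = E₂.hom y := congrArg (fun f : E₂.left ⟶ X => f y) (Over.w j₂)
      change π (k₂ y) ∈ _
      rw [← Scheme.Hom.comp_apply, e]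
      exact this
  have hl₁ : ∀ {T : Over X} (x : T ⟶ P) (_ : T ⟶ O V₁), ∃ q : T ⟶ E₁, q ≫ j₁ = x :=
    fun x u => K552.Glue.lift_of_isPullback hp₁ x u
  have hl₂ : ∀ {T : Over X} (x : T ⟶ P) (_ : T ⟶ O V₂), ∃ q : T ⟶ E₂, q ≫ j₂ = x :=
    fun x u => K552.Glue.lift_of_isPullback hp₂ x u
  -- overlap
  have hz : ∀ {T : Over X} (q₁ : T ⟶ E₁) (q₂ : T ⟶ E₂), q₁ ≫ j₁ = q₂ ≫ j₂ →
      lift q₁ (q₂ ≫ π₂) ≫ φ = q₂ := by
    intro T q₁ q₂ e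
    rw [← cancel_mono j₂, Category.assoc, ← hcond, lift_fst_assoc, e]
  have hz' : ∀ {T : Over X} (q₁ : T ⟶ E₁) (v : T ⟶ O V₂), q₁ ≫ j₁ = (lift q₁ v ≫ φ) ≫ j₂ := by
    intro T q₁ v
    rw [Category.assoc, ← hcond, lift_fst_assoc]
  obtain ⟨a, ha₁, ha₂⟩ := exists_action j₁ j₂ u π₁ π₂ hl₁ hl₂ a₁ a₂ (by
    intro T g q₁ q₂ e
    have h3 := hz q₁ q₂ e
    conv_rhs => rw [← h3]
    rw [← heq, ← hz'])
  -- the morphism to `F`
  obtain ⟨q₁, hq₁⟩ := hl₁ (fst (P ⊗ I) (O V₁) ≫ fst P I) (snd _ _)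
  obtain ⟨q₂, hq₂⟩ := hl₂ (fst (P ⊗ I) (O V₂) ≫ fst P I) (snd _ _)
  obtain ⟨r, hr₁, hr₂⟩ := exists_glue_two (T := P ⊗ I) (fst _ _ ≫ u)
    (lift q₁ (fst _ _ ≫ snd _ _) ≫ r₁) (lift q₂ (fst _ _ ≫ snd _ _) ≫ r₂) (by
      intro Z t v₁ v₂
      rw [← Category.assoc, ← Category.assoc, comp_lift, comp_lift, lift_fst_assoc, lift_fst_assoc]
      have h3 := hz (lift t v₁ ≫ q₁) (lift t v₂ ≫ q₂) (by
        rw [Category.assoc, hq₁, Category.assoc, hq₂, lift_fst_assoc, lift_fst_assoc])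
      rw [← h3, hcmp])
  have hr₁' : ∀ {T : Over X} (e : T ⟶ E₁) (t : T ⟶ I), lift (e ≫ j₁) t ≫ r = lift e t ≫ r₁ := by
    intro T e t
    have h3 := congrArg (fun z => lift (lift (e ≫ j₁) t) (e ≫ π₁) ≫ z) hr₁
    simp only [lift_fst_assoc] at h3
    rw [h3, ← Category.assoc, comp_lift, lift_fst_assoc, lift_snd]
    congr 2
    rw [← cancel_mono j₁, Category.assoc, hq₁, lift_fst_assoc, lift_fst]
  have hr₂' : ∀ {T : Over X} (e : T ⟶ E₂) (t : T ⟶ I), lift (e ≫ j₂) t ≫ r = lift e t ≫ r₂ := by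
    intro T e t
    have h3 := congrArg (fun z => lift (lift (e ≫ j₂) t) (e ≫ π₂) ≫ z) hr₂
    simp only [lift_fst_assoc] at h3
    rw [h3, ← Category.assoc, comp_lift, lift_fst_assoc, lift_snd]
    congr 2
    rw [← cancel_mono j₂, Category.assoc, hq₂, lift_fst_assoc, lift_fst]
  refine ⟨P, a, r, tr_of_two j₁ j₂ u hl₁ hl₂ a₁ a₂ a ha₁ ha₂ H₁.tr H₂.tr, ?_, ⟨u⟩, ?_⟩
  · rintro x (hx | hx)
    · obtain ⟨W, hW, ⟨s⟩⟩ := H₁.loc x hx
      exact ⟨W, hW, ⟨s ≫ j₁⟩⟩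
    · obtain ⟨W, hW, ⟨s⟩⟩ := H₂.loc x hx
      exact ⟨W, hW, ⟨s ≫ j₂⟩⟩
  · intro T g e t
    refine hom_ext_two (e ≫ u) ?_ ?_
    · obtain ⟨q, hq⟩ := hl₁ (fst T (O V₁) ≫ e) (snd _ _)
      rw [← Category.assoc, comp_lift, comp_sm, comp_sm, ← Category.assoc, comp_lift, ← hq, ha₁, hr₁', H₁.eqv,
        hr₁']
    · obtain ⟨q, hq⟩ := hl₂ (fst T (O V₂) ≫ e) (snd _ _)
      rw [← Category.assoc, comp_lift, comp_sm, comp_sm, ← Category.assoc, comp_lift, ← hq, ha₂, hr₂', H₂.eqv,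
        hr₂']

end Glue

end K976.LftGlue
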