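import Groth.Agent.NonAbH1.K976.LftUniq
import Groth.Agent.NonAbH1.K976.LftGlue

/-!
# Existence of lifts of a torsor along a square-zero thickening on schemes covered by two affine opens
-/

set_option autoImplicit false
universe u

open CategoryTheory CategoryTheory.Limits MonoidalCategory CartesianMonoidalCategory MonObj GrpObj AlgebraicGeometry
open Groth.Agent.Books.BorelOrb

namespace K976.LftAff

open K976.Lft K976.LftGlue K976.LftUniq

variable {X : Scheme.{u}} {G F : Over X} [GrpObj G] {b : AlgGrp.Action G F}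
  {A : Type u} [CommRing A] (J : Ideal A) (hJ : J * J = ⊥)
  (π : X ⟶ Spec (CommRingCat.of A)) {XT : Scheme.{u}} (i : XT ⟶ X) (πT : XT ⟶ Spec (CommRingCat.of (A ⧸ J)))
  (hT : IsPullback i πT π (Spec.map (CommRingCat.ofHom (Ideal.Quotient.mk J))))
  [Smooth G.hom] [IsAffineHom G.hom] (hb : Tr b)

include hJ hT hb in
/-- lifts glue along affine intersections -/
theorem sup {V₁ V₂ : X.Opens} (h₁ : HasLft b (Over.mk i) V₁) (h₂ : HasLft b (Over.mk i) V₂)
    (h : IsAffineOpen (V₁ ⊓ V₂)) : HasLft b (Over.mk i) (V₁ ⊔ V₂) := by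
  obtain ⟨E₁, a₁, r₁, H₁⟩ := h₁
  obtain ⟨E₂, a₂, r₂, H₂⟩ := h₂
  obtain ⟨φ, hφ, hφ'⟩ := exists_phi J hJ π i πT hT H₁ H₂ hb (V₁ ⊓ V₂) h inf_le_left inf_le_right
  obtain ⟨π₁⟩ := H₁.ov
  let c : E₁ ⊗ O V₂ ⟶ E₁ ⊗ O (V₁ ⊓ V₂) :=
    lift (fst _ _) (exists_toO (V := V₁ ⊓ V₂) (T := E₁ ⊗ O V₂) fun t =>
      ⟨mem_of_toO (fst _ _ ≫ π₁ : E₁ ⊗ O V₂ ⟶ O V₁) t, mem_of_toO (snd E₁ (O V₂)) t⟩).some
  have hc : ∀ {T : Over X} (e : T ⟶ E₁) (v : T ⟶ O V₂) , ∃ w : T ⟶ O (V₁ ⊓ V₂), lift e v ≫ c = lift e w := by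
    intro T e v
    refine ⟨lift e v ≫ c ≫ snd _ _, ?_⟩
    apply CartesianMonoidalCategory.hom_ext
    · simp [c]
    · exact o_uniq _ _
  refine hasLft_sup H₁ H₂ (c ≫ φ) ?_ ?_
  · intro T g e v
    obtain ⟨w, hw⟩ := hc (sm a₁ g e) v
    obtain ⟨w', hw'⟩ := hc e v
    rw [← Category.assoc, ← Category.assoc, hw, hw', o_uniq w w', hφ]
  · intro T e v t
    obtain ⟨w', hw'⟩ := hc e v
    rw [← Category.assoc, hw', hφ']

include hJ hT hb in
/-- **Lifts exist over affine opens.** -/
theorem of_isAffineOpen (hbot : HasLft b (Over.mk i) ⊥)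
    (hloc : ∀ x : X, ∃ V : X.Opens, x ∈ V ∧ HasLft b (Over.mk i) V) {V : X.Opens}
    (hV : IsAffineOpen V) : HasLft b (Over.mk i) V := by
  let I : Ideal Γ(X, V) :=
    { carrier := {f | HasLft b (Over.mk i) (X.basicOpen f)}
      zero_mem' := by
        change HasLft b (Over.mk i) (X.basicOpen 0)
        rw [Scheme.basicOpen_zero]
        exact hbot
      add_mem' := by
        intro f g hf hg
        change HasLft b (Over.mk i) (X.basicOpen (f + g))
        have h1 : HasLft b (Over.mk i) (X.basicOpen ((f + g) * f)) := by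
          rw [Scheme.basicOpen_mul]
          exact HasLft.mono hf inf_le_right
        have h2 : HasLft b (Over.mk i) (X.basicOpen ((f + g) * g)) := by
          rw [Scheme.basicOpen_mul]
          exact HasLft.mono hg inf_le_right
        have h3 : IsAffineOpen (X.basicOpen ((f + g) * f) ⊓ X.basicOpen ((f + g) * g)) := by
          rw [← Scheme.basicOpen_mul]
          exact hV.basicOpen _
        refine HasLft.mono (sup J hJ π i πT hT hb h1 h2 h3) ?_
        intro x hx
        have hxV : x ∈ V := X.basicOpen_le _ hx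
        have h4 : x ∈ X.basicOpen f ∨ x ∈ X.basicOpen g := by
          by_contra hcon
          rw [not_or] at hcon
          rw [Scheme.mem_basicOpen _ _ x hxV] at hx hcon
          rw [Scheme.mem_basicOpen _ _ x hxV] at hcon
          rw [map_add] at hx
          rcases IsLocalRing.isUnit_or_isUnit_of_isUnit_add hx with h | h
          · exact hcon.1 h
          · exact hcon.2 h
        rcases h4 with h | h
        · left
          rw [Scheme.basicOpen_mul]
          exact ⟨hx, h⟩
        · right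
          rw [Scheme.basicOpen_mul]
          exact ⟨hx, h⟩
      smul_mem' := by
        intro c f hf
        change HasLft b (Over.mk i) (X.basicOpen (c * f))
        rw [Scheme.basicOpen_mul]
        exact HasLft.mono hf inf_le_right }
  have hI : I = ⊤ := by
    have h1 : (⨆ f : I, X.basicOpen (f : Γ(X, V))) = V := by
      apply le_antisymm
      · exact iSup_le fun f => X.basicOpen_le _
      · intro x hx
        obtain ⟨U, hxU, hU⟩ := hloc x
        obtain ⟨f, hf, hxf⟩ := hV.exists_basicOpen_le ⟨x, hxU⟩ hx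
        have h2 : f ∈ I := HasLft.mono hU hf
        exact TopologicalSpace.Opens.mem_iSup.2 ⟨⟨f, h2⟩, hxf⟩
    have h2 := (hV.iSup_basicOpen_eq_self_iff (s := (I : Set Γ(X, V)))).1 h1
    rwa [Ideal.span_eq] at h2
  have h1 : (1 : Γ(X, V)) ∈ I := hI ▸ Submodule.mem_top
  have h2 : HasLft b (Over.mk i) (X.basicOpen (1 : Γ(X, V))) := h1
  rwa [Scheme.basicOpen_of_isUnit X isUnit_one] at h2

end K976.LftAff
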