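import Groth.Agent.NonAbH1.K976.LftAff
import Groth.Prelude.Def_NonAbH2

/-!
# From lifts in the pointwise sense to torsors with a cartesian equivariant square
-/

set_option autoImplicit false
universe u

open CategoryTheory CategoryTheory.Limits MonoidalCategory CartesianMonoidalCategory MonObj GrpObj AlgebraicGeometry
open Groth.Agent.Books.BorelOrb

namespace K976.LftFin

open K976.Lft K976.LftGlue K552.Push

variable {X XT : Scheme.{u}} {G : Over X} [GrpObj G] (i : XT ⟶ X)

/-- the empty open -/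
theorem hasLft_bot {I F : Over X} (b : AlgGrp.Action G F) : HasLft b I ⊥ := by
  have h0 : ∀ {T : Over X} (_ : T ⟶ O (X := X) ⊥) (_ : T.left), False := fun u t => mem_of_toO u t
  obtain ⟨s, -⟩ := exists_of_local (T := O (X := X) ⊥ ⊗ I) (Y := F) (fun _ _ => True) (fun _ _ _ _ => trivial)
    (fun t y y' _ _ => hom_ext_local fun x => (h0 (t ≫ fst _ _) x).elim)
    (fun x => (h0 (fst _ _) x).elim)
  exact hasLft_of_section s

/-- local sections give local lifts -/
theorem hasLft_local [IsClosedImmersion i] [Surjective i] {ET : Over XT} (aT : AlgGrp.Action (Red.bc i G) ET)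
    (hET : NonAbH1.IsLocallyTrivialFor Scheme.zariskiPrecoverage ET) (x : X) :
    ∃ V : X.Opens, x ∈ V ∧ HasLft (push aT) (Over.mk i) V := by
  obtain ⟨R, hR, h⟩ := hET
  obtain ⟨ι', Y, f, rfl⟩ := R.exists_eq_ofArrows
  rw [Scheme.zariskiPrecoverage, Scheme.ofArrows_mem_precoverage_iff] at hR
  obtain ⟨x', rfl⟩ := i.surjective x
  obtain ⟨k, hk⟩ := hR.1 x'
  have hoi : IsOpenImmersion (f k) := hR.2 k
  obtain ⟨s, hs⟩ := h _ (Presieve.ofArrows.mk k)
  obtain ⟨V, hV, hVi⟩ := (i.isClosedEmbedding.isInducing.isOpen_iff).1 (f k).opensRange.2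
  refine ⟨⟨V, hV⟩, ?_, ?_⟩
  · change x' ∈ i ⁻¹' V
    rw [hVi]
    exact hk
  · have h1 : Set.range (pullback.snd (Scheme.Opens.ι (X := X) ⟨V, hV⟩) i) ⊆ Set.range (f k) := by
      rintro _ ⟨z, rfl⟩
      have h2 : pullback.snd (Scheme.Opens.ι (X := X) ⟨V, hV⟩) i z ∈ i ⁻¹' V := by
        change i (pullback.snd (Scheme.Opens.ι (X := X) ⟨V, hV⟩) i z) ∈ V
        rw [← Scheme.Hom.comp_apply, ← pullback.condition, Scheme.Hom.comp_apply]
        exact (pullback.fst (Scheme.Opens.ι (X := X) ⟨V, hV⟩) i z).2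
      rw [hVi] at h2
      exact h2
    refine hasLft_of_section (Over.homMk (IsOpenImmersion.lift (f k) (pullback.snd _ i) h1 ≫ s) ?_)
    change (IsOpenImmersion.lift (f k) (pullback.snd _ i) h1 ≫ s) ≫ ET.hom ≫ i =
      pullback.fst (Scheme.Opens.ι (X := X) ⟨V, hV⟩) i ≫ Scheme.Opens.ι (X := X) ⟨V, hV⟩
    rw [Category.assoc, reassoc_of% hs, IsOpenImmersion.lift_fac_assoc, pullback.condition]

lemma tr_push [Mono i] {ET : Over XT} {aT : AlgGrp.Action (Red.bc i G) ET} (h : NonAbH1.IsPseudoTorsorSch aT) :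
    Tr (push aT) := by
  intro T x y
  refine existsUnique_push h x y ?_
  ext
  have h1 := (Over.w (x ≫ proj i ET)).trans (Over.w (y ≫ proj i ET)).symm
  change (x ≫ proj i ET).left ≫ i = (y ≫ proj i ET).left ≫ i at h1
  exact (cancel_mono i).1 h1

/-- **The conclusion from a global lift.** -/
theorem exists_torsor [Mono i] {ET : Over XT} {aT : AlgGrp.Action (Red.bc i G) ET}
    (h : NonAbH1.IsPseudoTorsorSch aT) (H : HasLft (push aT) (Over.mk i) ⊤) :
    ∃ (E : Over X) (a : AlgGrp.Action G E) (j : (Over.map i).obj ET ⟶ E),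
      NonAbH1.IsTorsorFor Scheme.zariskiPrecoverage a ∧
      IsPullback j.left ET.hom E.hom i ∧
      (Over.map i).map aT.act ≫ j =
        CartesianMonoidalCategory.lift
          ((Over.map i).map (CartesianMonoidalCategory.fst _ _) ≫ (Over.mapPullbackAdj i).counit.app G)
          ((Over.map i).map (CartesianMonoidalCategory.snd _ _) ≫ j) ≫ a.act := by
  obtain ⟨E, a, r, H⟩ := H
  have hb : Tr (push aT) := tr_push i h
  have hm : ∀ {T : Over X} (t t' : T ⟶ Over.mk i), t = t' := by
    intro T t t'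
    ext
    have h1 := (Over.w t).trans (Over.w t').symm
    exact (cancel_mono i).1 h1
  have htop : ∀ T : Over X, Nonempty (T ⟶ O (X := X) ⊤) := fun T => exists_toO fun _ => trivial
  obtain ⟨j, hj, -⟩ := H.existsUnique hb (𝟙 ((Over.map i).obj ET)) (proj i ET) (htop _).some
  have hj' : ∀ {T : Over X} (f : T ⟶ (Over.map i).obj ET), lift (f ≫ j) (f ≫ proj i ET) ≫ r = f := by
    intro T f
    rw [← comp_lift, Category.assoc, hj, Category.comp_id]
  have hu : ∀ {T : Over X} (e : T ⟶ E) (t : T ⟶ Over.mk i), (lift e t ≫ r) ≫ j = e := by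
    intro T e t
    refine (H.existsUnique hb (lift e t ≫ r) t (htop T).some).unique ?_ rfl
    have h1 := hj' (lift e t ≫ r)
    rwa [hm ((lift e t ≫ r) ≫ proj i ET) t] at h1
  refine ⟨E, a, j, ⟨(tr_iff a).1 H.tr, ?_⟩, ?_, ?_⟩
  · choose V hV s using fun x : X => H.loc x trivial
    refine ⟨Presieve.ofArrows (fun x => (V x : Scheme.{u})) (fun x => (V x).ι), ?_, ?_⟩
    · rw [Scheme.zariskiPrecoverage, Scheme.ofArrows_mem_precoverage_iff]
      exact ⟨fun x => ⟨x, by simpa using hV x⟩, fun x => inferInstance⟩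
    · rintro _ _ ⟨x⟩
      exact ⟨(s x).some.left, Over.w (s x).some⟩
  · let k₁ : E ⟶ Over.mk (𝟙 X) := Over.homMk E.hom (by simp)
    let k₂ : Over.mk i ⟶ Over.mk (𝟙 X) := Over.homMk i (by simp)
    have h1 : IsPullback j.left (proj i ET).left k₁.left k₂.left := by
      refine isPullback_of_points ?_ ?_ ?_
      · ext
        change j.left ≫ E.hom = ET.hom ≫ i
        exact Over.w j
      · intro T x y _
        exact ⟨lift x y ≫ r, hu x y, hm _ _⟩
      · intro T z z' h1 _
        rw [← hj' z, ← hj' z', h1, hm (z ≫ proj i ET) (z' ≫ proj i ET)]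
    exact h1
  · have h1 : (Over.map i).map aT.act = sm (push aT) (dn (fst (Red.bc i G) ET))
        ((Over.map i).map (snd (Red.bc i G) ET)) := by
      rw [sm_push_map, up_dn, sm, lift_fst_snd, Category.id_comp]
    have h2 : ∀ {T : Over X} (g : T ⟶ G) (f : T ⟶ (Over.map i).obj ET), sm (push aT) g f ≫ j = sm a g (f ≫ j) := by
      intro T g f
      have h3 := hu (sm a g (f ≫ j)) (f ≫ proj i ET)
      rw [H.eqv, hj'] at h3
      exact h3
    rw [h1, h2]
    have h3 : dn (fst (Red.bc i G) ET) = (Over.map i).map (CartesianMonoidalCategory.fst _ _) ≫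
        (Over.mapPullbackAdj i).counit.app G := by
      rw [dn, Adjunction.homEquiv_counit]
    rw [h3]
    rfl

end K976.LftFin
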