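import Groth.Agent.NonAbH1.K976.EqvRep
import Groth.Agent.AlgSp.K637.RegChart
import Groth.Agent.Flat2H.FSSmoothHom

/-!
# Two lifts of a torsor along a square-zero thickening agree over affine opens
-/

set_option autoImplicit false
universe u

open CategoryTheory CategoryTheory.Limits MonoidalCategory CartesianMonoidalCategory MonObj GrpObj AlgebraicGeometry
open Opposite
open Groth.Agent.Books.BorelOrb Groth.Agent.Sga3B.RepDescent

namespace K976.LftUniq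

open K976.Lft K976.EqvRep

/-- sections of a smooth morphism over an affine scheme lift along a square-zero thickening -/
theorem exists_lift {A : Type u} [CommRing A] (J : Ideal A) (hJ : J * J = ⊥) {W Z Y : Scheme.{u}} [IsAffine W]
    (q : W ⟶ Spec (CommRingCat.of A)) (i : Z ⟶ W) (z : Z ⟶ Spec (CommRingCat.of (A ⧸ J)))
    (h : IsPullback i z q (Spec.map (CommRingCat.ofHom (Ideal.Quotient.mk J)))) (f : Y ⟶ W) [Smooth f]
    (x : Z ⟶ Y) (hx : x ≫ f = i) : ∃ σ : W ⟶ Y, σ ≫ f = 𝟙 W ∧ i ≫ σ = x := by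
  let R := Γ(W, ⊤)
  let e : W ≅ Spec R := W.isoSpec
  obtain ⟨φ, hφ⟩ : ∃ φ : A →+* R, Spec.map (CommRingCat.ofHom φ) = e.inv ≫ q :=
    ⟨(Spec.preimage (e.inv ≫ q)).hom, by
      rw [CommRingCat.ofHom_hom, Spec.map_preimage]⟩
  have h1 := K637.RegChart.isPullback_quot φ J
  have hw : Spec.map (CommRingCat.ofHom (Ideal.Quotient.mk (J.map φ))) ≫ e.inv ≫ q =
      Spec.map (CommRingCat.ofHom (Ideal.quotientMap (J.map φ) φ Ideal.le_comap_map)) ≫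
        Spec.map (CommRingCat.ofHom (Ideal.Quotient.mk J)) := by
    rw [← hφ, h1.w]
  let κ : Spec (CommRingCat.of (R ⧸ J.map φ)) ⟶ Z :=
    h.lift (Spec.map (CommRingCat.ofHom (Ideal.Quotient.mk (J.map φ))) ≫ e.inv)
      (Spec.map (CommRingCat.ofHom (Ideal.quotientMap (J.map φ) φ Ideal.le_comap_map))) (by
        rw [Category.assoc]; exact hw)
  have hκ : κ ≫ i = Spec.map (CommRingCat.ofHom (Ideal.Quotient.mk (J.map φ))) ≫ e.inv := h.lift_fst _ _ _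
  let κ' : Z ⟶ Spec (CommRingCat.of (R ⧸ J.map φ)) := h1.lift z (i ≫ e.hom) (by
    rw [hφ, Category.assoc, e.hom_inv_id_assoc, h.w])
  have hκ' : κ' ≫ Spec.map (CommRingCat.ofHom (Ideal.Quotient.mk (J.map φ))) = i ≫ e.hom := h1.lift_snd _ _ _
  have hκz : κ ≫ z = Spec.map (CommRingCat.ofHom (Ideal.quotientMap (J.map φ) φ Ideal.le_comap_map)) :=
    h.lift_snd _ _ _
  have hκz' : κ' ≫ Spec.map (CommRingCat.ofHom (Ideal.quotientMap (J.map φ) φ Ideal.le_comap_map)) = z :=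
    h1.lift_fst _ _ _
  have hid : κ' ≫ κ = 𝟙 Z := by
    apply h.hom_ext
    · rw [Category.assoc, hκ, ← Category.assoc, hκ', Category.assoc, e.hom_inv_id, Category.comp_id,
        Category.id_comp]
    · rw [Category.assoc, hκz, hκz', Category.id_comp]
  have hsq : (J.map φ) ^ 2 = ⊥ := by
    rw [pow_two, ← Ideal.map_mul, hJ, Ideal.map_bot]
  obtain ⟨l, hl1, hl2⟩ := (Groth.Agent.Flat2H.FSSmoothHom.smooth_iff f).1 inferInstance |>.2 R (J.map φ) hsq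
    (κ ≫ x) e.inv (by rw [Category.assoc, hx, hκ])
  refine ⟨e.hom ≫ l, ?_, ?_⟩
  · rw [Category.assoc, hl2, e.hom_inv_id]
  · have h3 : i ≫ e.hom ≫ l = κ' ≫ κ ≫ x := by
      rw [← hl1, ← Category.assoc, ← hκ', Category.assoc]
    rw [h3, ← Category.assoc, hid, Category.id_comp]

variable {X : Scheme.{u}} {G E₁ E₂ F : Over X} [GrpObj G] {b : AlgGrp.Action G F}
  {a₁ : AlgGrp.Action G E₁} {a₂ : AlgGrp.Action G E₂}

/-- **Uniqueness of lifts over affine opens.** -/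
theorem exists_phi {A : Type u} [CommRing A] (J : Ideal A) (hJ : J * J = ⊥)
    (π : X ⟶ Spec (CommRingCat.of A)) {XT : Scheme.{u}} (i : XT ⟶ X) (πT : XT ⟶ Spec (CommRingCat.of (A ⧸ J)))
    (hT : IsPullback i πT π (Spec.map (CommRingCat.ofHom (Ideal.Quotient.mk J))))
    [Smooth G.hom] [IsAffineHom G.hom]
    {V₁ V₂ : X.Opens} {r₁ : E₁ ⊗ Over.mk i ⟶ F} {r₂ : E₂ ⊗ Over.mk i ⟶ F}
    (H₁ : IsLft b V₁ a₁ r₁) (H₂ : IsLft b V₂ a₂ r₂) (hb : Tr b) (W : X.Opens) (hW : IsAffineOpen W)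
    (hW₁ : W ≤ V₁) (hW₂ : W ≤ V₂) :
    ∃ φ : E₁ ⊗ O W ⟶ E₂,
      (∀ {T : Over X} (g : T ⟶ G) (e : T ⟶ E₁) (v : T ⟶ O W),
        lift (sm a₁ g e) v ≫ φ = sm a₂ g (lift e v ≫ φ)) ∧
      (∀ {T : Over X} (e : T ⟶ E₁) (v : T ⟶ O W) (t : T ⟶ Over.mk i),
        lift (lift e v ≫ φ) t ≫ r₂ = lift e t ≫ r₁) := by
  obtain ⟨A', ⟨r⟩, hsm, haff⟩ := exists_rep a₁ a₂ H₁.tr H₂.tr W (fun x hx => H₁.loc x (hW₁ hx))
    (fun x hx => H₂.loc x (hW₂ hx))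
  let T₀ : Over (W : Scheme.{u}) := Over.mk (pullback.fst W.ι i)
  let T₁ : Over X := (Over.map W.ι).obj T₀
  let t₀ : T₁ ⟶ Over.mk i := Over.homMk (pullback.snd W.ι i) pullback.condition.symm
  let w₀ : T₁ ⟶ O W := Over.homMk (pullback.fst W.ι i) rfl
  -- the tautological morphism over `T₁`
  obtain ⟨φ₀, hφ₀, hu⟩ := H₂.existsUnique hb (T := E₁ ⊗ T₁) (lift (fst _ _) (snd _ _ ≫ t₀) ≫ r₁) (snd _ _ ≫ t₀)
    (snd _ _ ≫ w₀ ≫ incl hW₂)
  have hφ₀' : ∀ {T : Over X} (e : T ⟶ E₁) (t : T ⟶ T₁), lift (lift e t ≫ φ₀) (t ≫ t₀) ≫ r₂ =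
      lift e (t ≫ t₀) ≫ r₁ := by
    intro T e t
    have h := congrArg (fun z => lift e t ≫ z) hφ₀
    simp only [← Category.assoc, comp_lift, lift_fst, lift_snd] at h
    exact h
  have hE : IsEqv a₁ a₂ T₁ φ₀ := by
    intro T g e t
    change lift (sm a₁ g e) t ≫ φ₀ = sm a₂ g (lift e t ≫ φ₀)
    refine (H₂.existsUnique hb (lift (sm a₁ g e) (t ≫ t₀) ≫ r₁) (t ≫ t₀) (t ≫ w₀ ≫ incl hW₂)).unique ?_ ?_
    · exact hφ₀' _ _
    · rw [H₂.eqv, hφ₀', H₁.eqv]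
  let x₀ : T₀ ⟶ A' := r.homEquiv.symm (⟨φ₀, hE⟩ : {y : (famF E₁ E₂).obj (op T₁) // IsEqv a₁ a₂ T₁ y})
  have : IsAffine (W : Scheme.{u}) := hW
  have hpb : IsPullback (pullback.fst W.ι i) (pullback.snd W.ι i ≫ πT) (W.ι ≫ π)
      (Spec.map (CommRingCat.ofHom (Ideal.Quotient.mk J))) :=
    (IsPullback.of_hasPullback W.ι i).flip.paste_horiz hT.flip |>.flip
  obtain ⟨σ, hσ1, hσ2⟩ := exists_lift J hJ (W.ι ≫ π) (pullback.fst W.ι i) _ hpb A'.hom x₀.left (Over.w x₀)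
  let σ' : Over.mk (𝟙 (W : Scheme.{u})) ⟶ A' := Over.homMk σ hσ1
  let p : T₀ ⟶ Over.mk (𝟙 (W : Scheme.{u})) := Over.homMk (pullback.fst W.ι i) (by simp [T₀])
  have hp : p ≫ σ' = x₀ := by
    ext
    exact hσ2
  let c : O W ⟶ (Over.map W.ι).obj (Over.mk (𝟙 (W : Scheme.{u}))) := Over.homMk (𝟙 _) (by simp)
  let φ : {y : (famF E₁ E₂).obj (op ((Over.map W.ι).obj (Over.mk (𝟙 (W : Scheme.{u}))))) //
    IsEqv a₁ a₂ _ y} := r.homEquiv σ'
  have hφ : (E₁ ◁ (Over.map W.ι).map p) ≫ (show E₁ ⊗ _ ⟶ E₂ from φ.1) = φ₀ := by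
    have h1 := r.homEquiv_comp p σ'
    rw [hp] at h1
    have h2 : r.homEquiv x₀ = (⟨φ₀, hE⟩ : {y : (famF E₁ E₂).obj (op T₁) // IsEqv a₁ a₂ T₁ y}) :=
      Equiv.apply_symm_apply _ _
    rw [h2] at h1
    exact (congrArg Subtype.val h1).symm
  refine ⟨(E₁ ◁ c) ≫ (show E₁ ⊗ _ ⟶ E₂ from φ.1), ?_, ?_⟩
  · intro T g e v
    rw [lift_whiskerLeft_assoc, lift_whiskerLeft_assoc]
    exact φ.2 g e (v ≫ c)
  · intro T e v t
    let τ : T ⟶ T₁ := Over.homMk (pullback.lift v.left t.left ((Over.w v).trans (Over.w t).symm)) (by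
      change pullback.lift _ _ _ ≫ pullback.fst W.ι i ≫ W.ι = _
      rw [pullback.lift_fst_assoc]
      exact Over.w v)
    have hτt : τ ≫ t₀ = t := by
      ext
      exact pullback.lift_snd _ _ _
    have hτv : v ≫ c = τ ≫ (Over.map W.ι).map p := by
      ext
      change v.left ≫ 𝟙 _ = pullback.lift _ _ _ ≫ pullback.fst W.ι i
      rw [pullback.lift_fst, Category.comp_id]
    rw [lift_whiskerLeft_assoc, hτv]
    have h5 : lift e (τ ≫ (Over.map W.ι).map p) ≫ (show E₁ ⊗ _ ⟶ E₂ from φ.1) = lift e τ ≫ φ₀ := by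
      rw [← hφ, lift_whiskerLeft_assoc]
    rw [h5, ← hτt, hφ₀']

end K976.LftUniq
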